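import Cfsg.Agent.H765.Bs.Ext

/-!
# S5733, BS23: determinant and spinor sign of block diagonal isometries (helper765)

* `exists_kap` : `κ : O Q →* Fˣ × ℤˣ` (odd characteristic) with kernel `E Q`;
* `card_O_le` : `|O Q| ≤ 4 |E Q|` in all characteristics;
* `mem_E_of_eq`, `mem_E_of_ne` : `J (1, b, c) ∈ E Q` for `b`, `c` both in `E` or both not in `E`, of determinant one.
-/

set_option autoImplicit false
set_option linter.unusedSectionVars false

namespace Cfsg.Agent.H765.Bs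

open QuadraticMap Cfsg.Agent.LieClassical.OrthCore Cfsg.Agent.LieClassical.OrthTrans
  Cfsg.Agent.LieClassical.OrthFinite

section Kap

variable {F V : Type*} [Field F] [AddCommGroup V] [Module F V] {Q : QuadraticForm F V}

/-- the transported form -/
def tQ {V' : Type*} [AddCommGroup V'] [Module F V'] (Q : QuadraticForm F V) (L : V ≃ₗ[F] V') : QuadraticForm F V' :=
  Q.comp (L.symm : V' →ₗ[F] V)

variable {V' : Type*} [AddCommGroup V'] [Module F V'] {L : V ≃ₗ[F] V'}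

theorem tQ_apply (v : V) : tQ Q L (L v) = Q v := by
  simp [tQ]

theorem tQ_polar (v w : V) : polar (tQ Q L) (L v) (L w) = polar Q v w := by
  simp only [QuadraticMap.polar]
  rw [← map_add, tQ_apply, tQ_apply, tQ_apply]

/-- conjugation -/
def cj (L : V ≃ₗ[F] V') : (V ≃ₗ[F] V) →* (V' ≃ₗ[F] V') where
  toFun g := L.symm ≪≫ₗ g ≪≫ₗ L
  map_one' := by ext v; simp
  map_mul' g h := by ext v; simp

theorem cj_apply (g : V ≃ₗ[F] V) (v : V) : cj L g (L v) = L (g v) := by simp [cj]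

theorem cj_injective : Function.Injective (cj L) := by
  intro g h hgh
  ext v
  have := congrArg (fun f : V' ≃ₗ[F] V' => f (L v)) hgh
  simp only [cj_apply] at this
  exact L.injective this

theorem cj_O {g : V ≃ₗ[F] V} : cj L g ∈ O (tQ Q L) ↔ g ∈ O Q := by
  constructor
  · intro h v
    have := h (L v)
    rwa [cj_apply, tQ_apply, tQ_apply] at this
  · intro h v
    obtain ⟨v, rfl⟩ := L.surjective v
    rw [cj_apply, tQ_apply, tQ_apply, h]

theorem cj_refl {v : V} (hv : Q v ≠ 0) (hv' : tQ Q L (L v) ≠ 0) : cj L (refl Q v hv) = refl (tQ Q L) (L v) hv' := by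
  ext x
  obtain ⟨x, rfl⟩ := L.surjective x
  rw [cj_apply, refl_apply, refl_apply, tQ_apply, tQ_polar, map_sub, map_smul]

theorem cj_siegel {u w : V} (hu : Q u = 0) (hw : polar Q u w = 0) (hu' : tQ Q L (L u) = 0)
    (hw' : polar (tQ Q L) (L u) (L w) = 0) :
    cj L (siegel Q u w hu hw) = siegel (tQ Q L) (L u) (L w) hu' hw' := by
  ext x
  obtain ⟨x, rfl⟩ := L.surjective x
  rw [cj_apply, siegel_apply, siegel_apply, tQ_apply, tQ_polar, tQ_polar, map_sub, map_sub, map_add, map_smul,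
    map_smul, map_smul]

theorem cj_E {g : V ≃ₗ[F] V} : cj L g ∈ E (tQ Q L) ↔ g ∈ E Q := by
  have h1 : (E Q).map (cj L) = E (tQ Q L) := by
    rw [E, E, MonoidHom.map_closure]
    congr 1
    ext x
    constructor
    · rintro ⟨_, ⟨u, w, hu, hw, rfl⟩, rfl⟩
      exact ⟨L u, L w, by rw [tQ_apply]; exact hu, by rw [tQ_polar]; exact hw, (cj_siegel hu hw _ _)⟩
    · rintro ⟨u, w, hu, hw, rfl⟩
      obtain ⟨u, rfl⟩ := L.surjective u
      obtain ⟨w, rfl⟩ := L.surjective w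
      have hu' : Q u = 0 := by rwa [tQ_apply] at hu
      have hw' : polar Q u w = 0 := by rwa [tQ_polar] at hw
      exact ⟨_, ⟨u, w, hu', hw', rfl⟩, cj_siegel hu' hw' hu hw⟩
  rw [← h1]
  exact Subgroup.mem_map_iff_mem cj_injective

theorem nondeg_tQ (hQ : Nondeg Q) : Nondeg (tQ Q L) := by
  intro x hx
  obtain ⟨x, rfl⟩ := L.surjective x
  have h1 := hQ x (fun y => by rw [← tQ_polar (L := L)]; exact hx (L y))
  rw [h1, map_zero]

open Classical in
theorem exists_kap [Finite F] [FiniteDimensional F V] (h2 : (2 : F) ≠ 0) (hQ : Nondeg Q) (hd : 5 ≤ Module.finrank F V) :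
    ∃ κ : ↥(O Q) →* Fˣ × ℤˣ, (∀ g : ↥(O Q), (g : V ≃ₗ[F] V) ∈ E Q ↔ κ g = 1) ∧
      (∀ v (hv : Q v ≠ 0), κ ⟨refl Q v hv, refl_mem_O hv⟩ = (-1, if IsSquare (Q v) then -1 else 1)) ∧
      ∀ g : ↥(O Q), ((κ g).1 : F) = LinearMap.det ((g : V ≃ₗ[F] V) : V →ₗ[F] V) := by
  obtain ⟨n, hn⟩ : ∃ n, Module.finrank F V = n := ⟨_, rfl⟩
  let L : V ≃ₗ[F] (Fin n → F) := LinearEquiv.ofFinrankEq _ _ (by rw [hn]; simp)
  have hG : Good (tQ Q L) := good_of_finite (nondeg_tQ hQ) (by simp; omega)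
  let i : ↥(O Q) →* ↥(O (tQ Q L)) :=
    { toFun := fun g => ⟨cj L g, cj_O.2 g.2⟩
      map_one' := Subtype.ext (map_one (cj L))
      map_mul' := fun a b => Subtype.ext (map_mul (cj L) (a : V ≃ₗ[F] V) (b : V ≃ₗ[F] V)) }
  let k : ↥(O (tQ Q L)) →* Fˣ × ℤˣ :=
    ((LinearEquiv.det : ((Fin n → F) ≃ₗ[F] (Fin n → F)) →* Fˣ).comp (O (tQ Q L)).subtype).prod
      (Cfsg.Agent.FooteOrth.sg (tQ Q L))
  refine ⟨k.comp i, ?_, ?_, ?_⟩
  · intro g
    rw [← cj_E (L := L)]
    rw [Cfsg.Agent.FooteOrth.mem_E_iff hG h2 (cj_O.2 g.2)]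
    constructor
    · rintro ⟨h, h'⟩
      exact Prod.ext h h'
    · intro h
      exact ⟨congrArg Prod.fst h, congrArg Prod.snd h⟩
  · intro v hv
    have hv' : tQ Q L (L v) ≠ 0 := by rwa [tQ_apply]
    have e1 : i ⟨refl Q v hv, refl_mem_O hv⟩ = ⟨refl (tQ Q L) (L v) hv', refl_mem_O hv'⟩ :=
      Subtype.ext (cj_refl hv hv')
    rw [MonoidHom.comp_apply, e1]
    refine Prod.ext (Cfsg.Agent.FooteOrth.det_refl hv') ?_
    have h3 := Cfsg.Agent.FooteOrth.sg_refl h2 hv'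
    simp only [tQ_apply] at h3
    exact h3
  · intro g
    change ((LinearEquiv.det (cj L (g : V ≃ₗ[F] V)) : Fˣ) : F) = _
    rw [LinearEquiv.coe_det]
    have e1 : ((cj L (g : V ≃ₗ[F] V) : (Fin n → F) ≃ₗ[F] (Fin n → F)) : (Fin n → F) →ₗ[F] (Fin n → F)) =
        (L : V →ₗ[F] (Fin n → F)) ∘ₗ ((g : V ≃ₗ[F] V) : V →ₗ[F] V) ∘ₗ (L.symm : (Fin n → F) →ₗ[F] V) := by
      ext1 v
      rfl
    rw [e1, LinearMap.det_conj]

theorem O_induction [FiniteDimensional F V] (hQ : Nondeg Q) {P : ↥(O Q) → Prop}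
    (hr : ∀ v (hv : Q v ≠ 0), P ⟨refl Q v hv, refl_mem_O hv⟩)
    (hs : ∀ u w (hu : Q u = 0) (hw : polar Q u w = 0), P ⟨siegel Q u w hu hw, siegel_mem_O hu hw⟩)
    (h1 : P 1) (hm : ∀ a b, P a → P b → P (a * b)) (hi : ∀ a, P a → P a⁻¹) : ∀ g, P g := by
  rintro ⟨g, hg⟩
  have hg' := hg
  rw [O_eq_closure hQ] at hg'
  have key : ∃ hx : g ∈ O Q, P ⟨g, hx⟩ := by
    induction hg' using Subgroup.closure_induction with
    | mem x hx =>
      rcases hx with ⟨v, hv, rfl⟩ | ⟨u, w, hu, hw, rfl⟩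
      · exact ⟨refl_mem_O hv, hr v hv⟩
      · exact ⟨siegel_mem_O hu hw, hs u w hu hw⟩
    | one => exact ⟨one_mem _, h1⟩
    | mul x y hx' hy' hx hy =>
      have hx1 : x ∈ O Q := by rw [O_eq_closure hQ]; exact hx'
      have hy1 : y ∈ O Q := by rw [O_eq_closure hQ]; exact hy'
      obtain ⟨hx2, hx3⟩ := hx hx1
      obtain ⟨hy2, hy3⟩ := hy hy1
      exact ⟨mul_mem hx2 hy2, hm _ _ hx3 hy3⟩
    | inv x hx' hx =>
      have hx1 : x ∈ O Q := by rw [O_eq_closure hQ]; exact hx'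
      obtain ⟨hx2, hx3⟩ := hx hx1
      exact ⟨inv_mem hx2, hi _ hx3⟩
  obtain ⟨_, h⟩ := key
  exact h

theorem card_O_le [Finite F] [FiniteDimensional F V] (hQ : Nondeg Q) (hd : 5 ≤ Module.finrank F V) :
    Nat.card ↥(O Q) ≤ 4 * Nat.card ↥(E Q) := by
  classical
  have hfin : Finite (V ≃ₗ[F] V) := by
    have : Finite V := Module.finite_of_finite F
    exact Finite.of_injective (fun g : V ≃ₗ[F] V => (g : V → V)) DFunLike.coe_injective
  by_cases h2 : (2 : F) = 0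
  · have hG := good_of_finite hQ hd
    have hch : CharP F 2 := CharTwo.of_one_ne_zero_of_two_eq_zero one_ne_zero h2
    -- all non-singular vectors are equivalent
    have hrr : ∀ v v' : V, ∀ (hv : Q v ≠ 0) (hv' : Q v' ≠ 0), refl Q v hv * refl Q v' hv' ∈ E Q := by
      intro v v' hv hv'
      have : Fintype F := Fintype.ofFinite F
      obtain ⟨a, ha⟩ : IsSquare (Q v' * (Q v)⁻¹) := FiniteField.isSquare_of_char_two
        (ringChar.eq F 2) _
      have ha0 : a ≠ 0 := by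
        rintro rfl
        rw [mul_zero] at ha
        exact (mul_ne_zero hv' (inv_ne_zero hv)) ha
      have h3 : Q (a • v) = Q v' := by
        rw [QuadraticMap.map_smul, ← ha, smul_eq_mul, mul_assoc, inv_mul_cancel₀ hv, mul_one]
      have h4 : Q (a • v) ≠ 0 := by rw [h3]; exact hv'
      rw [← refl_smul hv ha0 h4]
      exact hG.refl_mul_refl_mem hv' h4 h3.symm
    obtain ⟨x, y, hxy⟩ := hG.exists_hyp
    obtain ⟨v₀, hv₀⟩ : ∃ v, Q v ≠ 0 := by
      refine ⟨x + y, ?_⟩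
      rw [Q_add, hxy.left, hxy.right, hxy.pair]
      simp
    set r := refl Q v₀ hv₀ with hr
    have hrr1 : r * r = 1 := refl_mul_self hv₀
    have hrO : r ∈ O Q := refl_mem_O hv₀
    have key : ∀ g : ↥(O Q), (g : V ≃ₗ[F] V) ∈ E Q ∨ r * (g : V ≃ₗ[F] V) ∈ E Q := by
      apply O_induction hQ (P := fun g => (g : V ≃ₗ[F] V) ∈ E Q ∨ r * (g : V ≃ₗ[F] V) ∈ E Q)
      · intro v hv
        exact Or.inr (hrr v₀ v hv₀ hv)
      · intro u w hu hw
        exact Or.inl (siegel_mem_E hu hw)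
      · exact Or.inl (one_mem _)
      · rintro ⟨a, ha⟩ ⟨b, hb⟩ (h | h) (h' | h')
        · exact Or.inl (mul_mem h h')
        · right
          have e1 : r * (a * b) = (r * a * r⁻¹) * (r * b) := by group
          change r * (a * b) ∈ E Q
          rw [e1]
          exact mul_mem (conj_mem_E hrO h) h'
        · right
          have e1 : r * (a * b) = (r * a) * b := by group
          change r * (a * b) ∈ E Q
          rw [e1]
          exact mul_mem h h'
        · left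
          have e1 : a * b = (r * (r * a) * r⁻¹) * (r * b) := by
            rw [← mul_assoc r r a, hrr1]; group
          change a * b ∈ E Q
          rw [e1]
          exact mul_mem (conj_mem_E hrO h) h'
      · rintro ⟨a, ha⟩ (h | h)
        · exact Or.inl (inv_mem h)
        · right
          change r * a⁻¹ ∈ E Q
          have e1 : r * a⁻¹ = r * (r * a)⁻¹ * r⁻¹ := by
            rw [mul_inv_rev, mul_assoc, mul_assoc, ← mul_inv_rev, hrr1, inv_one, mul_one]
          rw [e1]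
          exact conj_mem_E hrO (inv_mem h)
    have h5 : Nat.card ↥(O Q) ≤ Nat.card (Bool × ↥(E Q)) := by
      let f : Bool × ↥(E Q) → ↥(O Q) := fun x => if x.1 then ⟨x.2, E_le_O x.2.2⟩ else
        ⟨r * x.2, mul_mem hrO (E_le_O x.2.2)⟩
      refine Nat.card_le_card_of_surjective f ?_
      rintro ⟨g, hg⟩
      rcases key ⟨g, hg⟩ with h | h
      · exact ⟨(true, ⟨g, h⟩), rfl⟩
      · refine ⟨(false, ⟨r * g, h⟩), ?_⟩
        apply Subtype.ext
        change r * (r * g) = g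
        rw [← mul_assoc, hrr1, one_mul]
    rw [Nat.card_prod, Nat.card_eq_fintype_card (α := Bool), Fintype.card_bool] at h5
    omega
  · obtain ⟨κ, hκ1, hκ2, -⟩ := exists_kap h2 hQ hd
    have hsq : ∀ g : ↥(O Q), κ g * κ g = 1 := by
      apply O_induction hQ (P := fun g => κ g * κ g = 1)
      · intro v hv
        rw [hκ2]
        split_ifs <;> simp
      · intro u w hu hw
        have := (hκ1 ⟨siegel Q u w hu hw, siegel_mem_O hu hw⟩).1 (siegel_mem_E hu hw)
        rw [this, mul_one]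
      · simp
      · intro a b ha hb
        rw [map_mul]
        calc κ a * κ b * (κ a * κ b) = (κ a * κ a) * (κ b * κ b) := by
              rw [mul_mul_mul_comm]
          _ = 1 := by rw [ha, hb, mul_one]
      · intro a ha
        rw [map_inv, ← mul_inv, ha, inv_one]
    let T : Finset (Fˣ × ℤˣ) := {(1, 1), (1, -1), (-1, 1), (-1, -1)}
    have hT : ∀ g, κ g ∈ T := by
      intro g
      have h3 := congrArg Prod.fst (hsq g)
      have h4 : ((κ g).1 : F) * ((κ g).1 : F) = 1 := by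
        have := congrArg (Units.val) h3
        simpa using this
      have h5 : (κ g).1 = 1 ∨ (κ g).1 = -1 := by
        rcases mul_self_eq_one_iff.1 h4 with h | h
        · left; exact Units.ext h
        · right; exact Units.ext (by rw [h]; simp)
      have h6 := Int.units_eq_one_or (κ g).2
      have h7 : κ g = ((κ g).1, (κ g).2) := rfl
      rw [h7]
      rcases h5 with h | h <;> rcases h6 with h' | h' <;> rw [h, h'] <;> simp [T]
    have h8 : Nat.card ↥(O Q) = Nat.card κ.range * Nat.card κ.ker := by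
      rw [Nat.card_congr (QuotientGroup.quotientKerEquivRange κ).toEquiv.symm, ← Subgroup.index_eq_card,
        mul_comm, Subgroup.card_mul_index]
    have h9 : Nat.card κ.range ≤ 4 := by
      have : Nat.card κ.range ≤ Nat.card T := by
        refine Nat.card_le_card_of_injective (fun x : κ.range => (⟨x.1, by
          obtain ⟨g, hg⟩ := x.2
          rw [← hg]; exact hT g⟩ : T)) ?_
        intro x y hxy
        exact Subtype.ext (congrArg (fun t : T => t.1) hxy)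
      refine this.trans ?_
      rw [Nat.card_eq_fintype_card, Fintype.card_coe]
      exact Finset.card_le_four
    have h10 : Nat.card κ.ker ≤ Nat.card ↥(E Q) := by
      refine Nat.card_le_card_of_injective (fun x : κ.ker => (⟨(x : ↥(O Q)), (hκ1 _).2 x.2⟩ : ↥(E Q))) ?_
      intro x y hxy
      exact Subtype.ext (Subtype.ext (congrArg (fun t : ↥(E Q) => t.1) hxy))
    rw [h8]
    exact Nat.mul_le_mul h9 h10

end Kap

section Blk

variable {F V W D U : Type*} [Field F] [AddCommGroup V] [Module F V] [AddCommGroup W] [Module F W]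
  [AddCommGroup D] [Module F D] [AddCommGroup U] [Module F U] [Finite F] [FiniteDimensional F V]
  [FiniteDimensional F W]
  {e : (W × D × U) ≃ₗ[F] V} {Q : QuadraticForm F V} {QW : QuadraticForm F W} {QD : QuadraticForm F D}
  {QU : QuadraticForm F U}

open Classical in
/-- the sign of an isometry of the first summand -/
theorem kap_J (he : Iso3 Q QW QD QU e) (hQ : Nondeg Q)
    {κ : ↥(O Q) →* Fˣ × ℤˣ} (hκ1 : ∀ g : ↥(O Q), (g : V ≃ₗ[F] V) ∈ E Q ↔ κ g = 1)
    (hκ2 : ∀ v (hv : Q v ≠ 0), κ ⟨refl Q v hv, refl_mem_O hv⟩ = (-1, if IsSquare (Q v) then -1 else 1))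
    {κW : ↥(O QW) →* Fˣ × ℤˣ} (hκW1 : ∀ g : ↥(O QW), (g : W ≃ₗ[F] W) ∈ E QW ↔ κW g = 1)
    (hκW2 : ∀ v (hv : QW v ≠ 0), κW ⟨refl QW v hv, refl_mem_O hv⟩ = (-1, if IsSquare (QW v) then -1 else 1))
    (b : ↥(O QW)) : κ ⟨J e ((b : W ≃ₗ[F] W), 1, 1), (J_mem_O_iff he _ _ _).2 ⟨b.2, one_mem _, one_mem _⟩⟩ = κW b := by
  have hb : ∀ b : ↥(O QW), J e ((b : W ≃ₗ[F] W), 1, 1) ∈ O Q := fun b =>
    (J_mem_O_iff he _ _ _).2 ⟨b.2, one_mem _, one_mem _⟩
  have key : ∀ b : ↥(O QW), κ ⟨J e ((b : W ≃ₗ[F] W), 1, 1), hb b⟩ = κW b := by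
    apply O_induction (he.nondegW hQ) (P := fun b => κ ⟨J e ((b : W ≃ₗ[F] W), 1, 1), hb b⟩ = κW b)
    · intro v hv
      have hv' : Q (e (v, 0, 0)) ≠ 0 := by rw [he]; simpa using hv
      have e1 : (⟨J e (refl QW v hv, 1, 1), hb ⟨refl QW v hv, refl_mem_O hv⟩⟩ : ↥(O Q)) =
          ⟨refl Q (e (v, 0, 0)) hv', refl_mem_O hv'⟩ := Subtype.ext (J_reflW he hv hv')
      change κ ⟨J e (refl QW v hv, 1, 1), _⟩ = _
      rw [e1, hκ2, hκW2]
      have e2 : Q (e (v, 0, 0)) = QW v := by rw [he]; simp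
      simp only [e2]
    · intro u w hu hw
      rw [(hκW1 _).1 (siegel_mem_E hu hw)]
      exact (hκ1 _).1 (J_E_W he (siegel_mem_E hu hw))
    · rw [map_one]
      exact (hκ1 _).1 (J_E_W he (one_mem _))
    · intro x y hx hy
      rw [map_mul, ← hx, ← hy, ← map_mul]
      congr 1
      apply Subtype.ext
      change J e ((x : W ≃ₗ[F] W) * y, 1, 1) = J e (x, 1, 1) * J e (y, 1, 1)
      rw [← map_mul, Prod.mk_mul_mk, Prod.mk_mul_mk, mul_one, mul_one]
    · intro x hx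
      rw [map_inv, ← hx, ← map_inv]
      congr 1
  exact key b

/-- matching spinor signs -/
theorem J_mem_E_odd [FiniteDimensional F D] [FiniteDimensional F U] (h2 : (2 : F) ≠ 0) (he : Iso3 Q QW QD QU e)
    (hQ : Nondeg Q) (hV : 5 ≤ Module.finrank F V) (hD : 5 ≤ Module.finrank F D) (hU : 5 ≤ Module.finrank F U)
    {b : D ≃ₗ[F] D} {c : U ≃ₗ[F] U} (hb : b ∈ O QD) (hb' : b ∈ Cfsg.Agent.H847.Bs.slV F D) (hc : c ∈ O QU)
    (hc' : c ∈ Cfsg.Agent.H847.Bs.slV F U) (hbc : b ∈ E QD ↔ c ∈ E QU) : J e (1, b, c) ∈ E Q := by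
  obtain ⟨κ, hκ1, hκ2, -⟩ := exists_kap h2 hQ hV
  obtain ⟨κD, hD1, hD2, hD3⟩ := exists_kap h2 (he.nondegD hQ) hD
  obtain ⟨κU, hU1, hU2, hU3⟩ := exists_kap h2 (he.nondegU hQ) hU
  have e1 := kap_J (iso_swapD he) hQ hκ1 hκ2 hD1 hD2 ⟨b, hb⟩
  have e2 := kap_J (iso_swapU he) hQ hκ1 hκ2 hU1 hU2 ⟨c, hc⟩
  have e3 : J e (1, b, c) = J e (1, b, 1) * J e (1, 1, c) := by
    rw [← map_mul]; simp
  have hO : J e (1, b, c) ∈ O Q := (J_mem_O_iff he _ _ _).2 ⟨one_mem _, hb, hc⟩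
  rw [hκ1 ⟨_, hO⟩]
  have e4 : κ ⟨_, hO⟩ = κD ⟨b, hb⟩ * κU ⟨c, hc⟩ := by
    rw [← e1, ← e2, ← map_mul]
    congr 1
    apply Subtype.ext
    change J e (1, b, c) = J (swapD e) (b, 1, 1) * J (swapU e) (c, 1, 1)
    rw [J_swapD, J_swapU, e3]
  rw [e4]
  have d1 : (κD ⟨b, hb⟩).1 = 1 := by
    apply Units.ext
    rw [hD3]
    exact hb'
  have d2 : (κU ⟨c, hc⟩).1 = 1 := by
    apply Units.ext
    rw [hU3]
    exact hc'
  rw [hD1 ⟨b, hb⟩, hU1 ⟨c, hc⟩] at hbc
  refine Prod.ext ?_ ?_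
  · rw [Prod.fst_mul, d1, d2, mul_one]
    rfl
  · rw [Prod.snd_mul]
    change _ = (1 : ℤˣ)
    rcases Int.units_eq_one_or (κD ⟨b, hb⟩).2 with h | h <;>
      rcases Int.units_eq_one_or (κU ⟨c, hc⟩).2 with h' | h'
    · rw [h, h', mul_one]
    · exfalso
      have h5 := hbc.1 (Prod.ext d1 h)
      rw [h5] at h'
      have h6 : (1 : ℤˣ) = -1 := h'
      exact absurd h6 (by decide)
    · exfalso
      have h5 := hbc.2 (Prod.ext d2 h')
      rw [h5] at h
      have h6 : (1 : ℤˣ) = -1 := h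
      exact absurd h6 (by decide)
    · rw [h, h']; decide

end Blk

end Cfsg.Agent.H765.Bs
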