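import Cfsg.Agent.H765.Bs.Split
import Cfsg.Agent.H765.Bs.Kap
import Cfsg.Agent.H358.Bs.Amb

/-!
# S5733, BS23: the trick for `Ω` (helper765), relative to the block counts and the count of large block elements
-/

set_option autoImplicit false
set_option linter.unusedSectionVars false

namespace Cfsg.Agent.H765.Bs

open QuadraticMap Cfsg.Agent.LieClassical.OrthCore Cfsg.Agent.LieClassical.OrthTrans
  Cfsg.Agent.LieClassical.OrthFinite Cfsg.Agent.H847.Bs Module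

/-- BS08 (b) for one `j` -/
def OPlus (j : ℕ) (c : ℝ) : Prop :=
  ∀ (F V : Type) [Field F] [Finite F] [AddCommGroup V] [Module F V] [FiniteDimensional F V] (Q : QuadraticForm F V),
    Nondeg Q → finrank F V = 2 * j → PlusT Q →
    c * Nat.card ↥(O Q) ≤ Nat.card {x // x ∈ (frmQ Q).Bp ∧ x ∈ nQ Q}

/-- BS08 (c) for one `j` -/
def OAdj (j : ℕ) (c : ℝ) : Prop :=
  ∀ (F V : Type) [Field F] [Finite F] [AddCommGroup V] [Module F V] [FiniteDimensional F V] (Q : QuadraticForm F V),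
    Nondeg Q → finrank F V = 2 * j → PlusT Q → (2 : F) ≠ 0 →
    c * Nat.card ↥(O Q) ≤ Nat.card {x // x ∈ (frmQ Q).Bp ∧ x ∈ E Q} ∧
    c * Nat.card ↥(O Q) ≤ Nat.card {x // x ∈ (frmQ Q).Bp ∧ x ∈ slV F V ∧ x ∉ E Q}

/-- BS12 -/
def OCount : Prop :=
  ∃ c : ℝ, 0 < c ∧ ∃ K₀ : ℕ, ∀ (F V : Type) [Field F] [Finite F] [AddCommGroup V] [Module F V] [FiniteDimensional F V]
    (Q : QuadraticForm F V), Nondeg Q → ∀ n K : ℕ, K₀ ≤ K → finrank F V = 2 * n → K < n →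
    c / (K + 1) * Nat.card ↥(O Q) ≤ Nat.card {x // x ∈ (frmQ Q).SS K (2 * n) ∧ x ∈ nQ Q}

/-- BS40 (c) -/
def Base : Prop :=
  ∃ ε : ℝ, 0 < ε ∧ ∀ (F W : Type) [Field F] [Finite F] [AddCommGroup W] [Module F W] [FiniteDimensional F W]
    (Q : QuadraticForm F W), Nondeg Q → (finrank F W = 8 ∨ finrank F W = 9) → RB ε ↥(E Q)

theorem finite_aut (F V : Type) [Field F] [Finite F] [AddCommGroup V] [Module F V] [FiniteDimensional F V] :
    Finite (V ≃ₗ[F] V) := by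
  have : Finite V := Module.finite_of_finite F
  exact Finite.of_injective (fun g : V ≃ₗ[F] V => (g : V → V)) DFunLike.coe_injective

section

variable {F V W D U : Type} [Field F] [Finite F] [AddCommGroup V] [Module F V] [AddCommGroup W] [Module F W]
  [AddCommGroup D] [Module F D] [AddCommGroup U] [Module F U] [FiniteDimensional F V] [FiniteDimensional F W]
  [FiniteDimensional F D] [FiniteDimensional F U]
  {e : (W × D × U) ≃ₗ[F] V} {Q : QuadraticForm F V} {QW : QuadraticForm F W} {QD : QuadraticForm F D}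
  {QU : QuadraticForm F U}

/-- the elements with a given third block -/
theorem card_fib (he : Iso3 Q QW QD QU e) (hQ : Nondeg Q) {j : ℕ} {c₁ : ℝ} (h1 : OPlus j c₁) (h2 : OAdj j c₁)
    (hV : 5 ≤ finrank F V) (hU : 5 ≤ finrank F U) (hD : finrank F D = 2 * j) (hj : 5 ≤ 2 * j) (hp : PlusT QD)
    {c : U ≃ₗ[F] U} (hcO : c ∈ O QU) (hc : c ∈ nQ QU) :
    c₁ * Nat.card ↥(O QD) ≤ Nat.card {b : D ≃ₗ[F] D // b ∈ (frmQ QD).Bp ∧ J e (1, b, c) ∈ E Q} := by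
  have hfin := finite_aut F D
  have hQD := he.nondegD hQ
  have hmono : ∀ P : (D ≃ₗ[F] D) → Prop, (∀ b, P b → b ∈ (frmQ QD).Bp ∧ J e (1, b, c) ∈ E Q) →
      c₁ * Nat.card ↥(O QD) ≤ Nat.card {b // P b} →
      c₁ * Nat.card ↥(O QD) ≤ Nat.card {b : D ≃ₗ[F] D // b ∈ (frmQ QD).Bp ∧ J e (1, b, c) ∈ E Q} := by
    intro P hP h
    refine h.trans ?_
    have h3 : Nat.card {b // P b} ≤ Nat.card {b : D ≃ₗ[F] D // b ∈ (frmQ QD).Bp ∧ J e (1, b, c) ∈ E Q} :=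
      Nat.card_le_card_of_injective (fun x => ⟨x.1, hP x.1 x.2⟩) (fun x y hxy => Subtype.ext (by simpa using hxy))
    exact_mod_cast h3
  have hmul : ∀ {b : D ≃ₗ[F] D}, b ∈ E QD → c ∈ E QU → J e (1, b, c) ∈ E Q := by
    intro b hb hc'
    have e1 : J e (1, b, c) = J e (1, b, 1) * J e (1, 1, c) := by
      rw [← map_mul]; simp
    rw [e1]
    exact mul_mem (J_E_D he hb) (J_E_U he hc')
  by_cases h20 : (2 : F) = 0
  · rw [nQ, if_pos h20] at hc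
    have h3 := h1 F D QD hQD hD hp
    rw [nQ, if_pos h20] at h3
    exact hmono _ (fun b hb => ⟨hb.1, hmul hb.2 hc⟩) h3
  · rw [nQ, if_neg h20] at hc
    obtain ⟨h3, h4⟩ := h2 F D QD hQD hD hp h20
    by_cases hcE : c ∈ E QU
    · exact hmono _ (fun b hb => ⟨hb.1, hmul hb.2 hcE⟩) h3
    · refine hmono _ (fun b hb => ⟨hb.1, ?_⟩) h4
      have hbO : b ∈ O QD := fun v => (hb.1.1).2 v
      exact J_mem_E_odd h20 he hQ hV (by omega) hU hbO hb.2.1 hcO hc.2 (iff_of_false hb.2.2 hcE)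

/-- the set for the trick -/
def ES (e : (W × D × U) ≃ₗ[F] V) (Q : QuadraticForm F V) (QW : QuadraticForm F W) (QD : QuadraticForm F D)
    (QU : QuadraticForm F U) (K n : ℕ) : Set (V ≃ₗ[F] V) :=
  {y | y ∈ E Q ∧ ∃ a ∈ E QW, ∃ b ∈ (frmQ QD).Bp, ∃ c ∈ (frmQ QU).SS K (2 * n), y = J e (a, b, c)}

theorem card_ES (he : Iso3 Q QW QD QU e) (hQ : Nondeg Q) {j : ℕ} {c₁ : ℝ} (hc₁ : 0 ≤ c₁) (h1 : OPlus j c₁)
    (h2 : OAdj j c₁) (hV : 5 ≤ finrank F V) (hW : 5 ≤ finrank F W) (hU : 5 ≤ finrank F U) (hD : finrank F D = 2 * j)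
    (hj : 5 ≤ 2 * j) (hp : PlusT QD) {K n : ℕ} {c₂ : ℝ} (hc₂ : 0 ≤ c₂)
    (h3 : c₂ * Nat.card ↥(O QU) ≤ Nat.card {x // x ∈ (frmQ QU).SS K (2 * n) ∧ x ∈ nQ QU}) :
    (1 / 4 * c₂ * c₁) * Nat.card ↥((J e).range ⊓ E Q) ≤ Nat.card ↥(ES e Q QW QD QU K n) := by
  have hfD := finite_aut F D
  have hfU := finite_aut F U
  have hfW := finite_aut F W
  have hfV := finite_aut F V
  let C := {x : U ≃ₗ[F] U // x ∈ (frmQ QU).SS K (2 * n) ∧ x ∈ nQ QU}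
  let P : C → Type := fun c => {b : D ≃ₗ[F] D // b ∈ (frmQ QD).Bp ∧ J e (1, b, c.1) ∈ E Q}
  have : Fintype C := Fintype.ofFinite C
  have hcO : ∀ c : C, c.1 ∈ O QU := fun c v => (c.2.1.1).2 v
  -- the injection
  have hJ : ∀ (a : W ≃ₗ[F] W) (b : D ≃ₗ[F] D) (c : U ≃ₗ[F] U), J e (a, b, c) = J e (a, 1, 1) * J e (1, b, c) := by
    intro a b c
    rw [← map_mul]; simp
  let f : ↥(E QW) × (Σ c : C, P c) → ↥(ES e Q QW QD QU K n) := fun x =>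
    ⟨J e (x.1.1, x.2.2.1, x.2.1.1), by
      refine ⟨?_, x.1.1, x.1.2, x.2.2.1, x.2.2.2.1, x.2.1.1, x.2.1.2.1, rfl⟩
      rw [hJ]
      exact mul_mem (J_E_W he x.1.2) x.2.2.2.2⟩
  have hf : Function.Injective f := by
    rintro ⟨⟨a, ha⟩, ⟨⟨c, hc⟩, ⟨b, hb⟩⟩⟩ ⟨⟨a', ha'⟩, ⟨⟨c', hc'⟩, ⟨b', hb'⟩⟩⟩ h
    have h4 : J e (a, b, c) = J e (a', b', c') := congrArg Subtype.val h
    have h5 := J_injective h4
    simp only [Prod.mk.injEq] at h5
    obtain ⟨rfl, rfl, rfl⟩ := h5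
    rfl
  have h4 : Nat.card (↥(E QW) × (Σ c : C, P c)) ≤ Nat.card ↥(ES e Q QW QD QU K n) :=
    Nat.card_le_card_of_injective f hf
  rw [Nat.card_prod, Nat.card_sigma] at h4
  -- the sum
  have h5 : c₂ * c₁ * (Nat.card ↥(O QD) * Nat.card ↥(O QU)) ≤ ((∑ c : C, Nat.card (P c) : ℕ) : ℝ) := by
    have h6 : (Nat.card C : ℝ) * (c₁ * Nat.card ↥(O QD)) ≤ ((∑ c : C, Nat.card (P c) : ℕ) : ℝ) := by
      rw [Nat.cast_sum, Nat.card_eq_fintype_card, ← Finset.card_univ, ← nsmul_eq_mul]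
      refine Finset.card_nsmul_le_sum _ _ _ ?_
      intro c _
      exact card_fib he hQ h1 h2 hV hU hD hj hp (hcO c) c.2.2
    refine le_trans ?_ h6
    calc c₂ * c₁ * (Nat.card ↥(O QD) * Nat.card ↥(O QU)) = (c₂ * Nat.card ↥(O QU)) * (c₁ * Nat.card ↥(O QD)) := by ring
      _ ≤ _ := mul_le_mul_of_nonneg_right h3 (by positivity)
  -- the group `M`
  have h7 : Nat.card ↥((J e).range ⊓ E Q) ≤ Nat.card (↥(O QW) × ↥(O QD) × ↥(O QU)) := by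
    refine Nat.card_le_card_of_surjective
      (fun x : {x : ↥(O QW) × ↥(O QD) × ↥(O QU) // J e (x.1.1, x.2.1.1, x.2.2.1) ∈ E Q} =>
        (⟨J e (x.1.1.1, x.1.2.1.1, x.1.2.2.1), ⟨⟨_, rfl⟩, x.2⟩⟩ : ↥((J e).range ⊓ E Q))) ?_ |>.trans ?_
    · rintro ⟨y, ⟨⟨a, b, c⟩, rfl⟩, hy⟩
      obtain ⟨ha, hb, hc⟩ := (J_mem_O_iff he a b c).1 (E_le_O hy)
      exact ⟨⟨(⟨a, ha⟩, ⟨b, hb⟩, ⟨c, hc⟩), hy⟩, rfl⟩
    · exact Nat.card_le_card_of_injective _ Subtype.val_injective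
  rw [Nat.card_prod, Nat.card_prod] at h7
  have h8 := card_O_le (he.nondegW hQ) hW
  have h9 : (Nat.card ↥(O QW) : ℝ) ≤ 4 * Nat.card ↥(E QW) := by exact_mod_cast h8
  have h10 : (Nat.card ↥((J e).range ⊓ E Q) : ℝ) ≤
      Nat.card ↥(O QW) * (Nat.card ↥(O QD) * Nat.card ↥(O QU)) := by exact_mod_cast h7
  have h11 : (Nat.card ↥(E QW) : ℝ) * ((∑ c : C, Nat.card (P c) : ℕ) : ℝ) ≤ Nat.card ↥(ES e Q QW QD QU K n) := by
    exact_mod_cast h4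
  refine le_trans ?_ h11
  calc (1 / 4 * c₂ * c₁) * (Nat.card ↥((J e).range ⊓ E Q) : ℝ)
      ≤ (1 / 4 * c₂ * c₁) * (Nat.card ↥(O QW) * (Nat.card ↥(O QD) * Nat.card ↥(O QU))) :=
        mul_le_mul_of_nonneg_left h10 (by positivity)
    _ ≤ (1 / 4 * c₂ * c₁) * (4 * Nat.card ↥(E QW) * (Nat.card ↥(O QD) * Nat.card ↥(O QU))) :=
        mul_le_mul_of_nonneg_left (mul_le_mul_of_nonneg_right h9 (by positivity)) (by positivity)
    _ = Nat.card ↥(E QW) * (c₂ * c₁ * (Nat.card ↥(O QD) * Nat.card ↥(O QU))) := by ring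
    _ ≤ _ := mul_le_mul_of_nonneg_left h5 (by positivity)

end

end Cfsg.Agent.H765.Bs
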