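import Cfsg.Agent.H847.Bs.Defs2
import Cfsg.Agent.FooteOrth.Spin

/-!
# S5733, BS23: block diagonal isometries of `W ⟂ D ⟂ U` (helper765)

* `J e (a, b, c)` : the automorphism of `V ≅ W × D × U` acting as `a`, `b`, `c`;
* `Ctx` : `Q (e (w, d, u)) = QW w + QD d + QU u`;
* `J_mem_O_iff`, `J_mem_E` : isometries, products of Siegel elements of the three summands.
-/

set_option autoImplicit false

namespace Cfsg.Agent.H765.Bs

open QuadraticMap Cfsg.Agent.LieClassical.OrthCore Cfsg.Agent.LieClassical.OrthTrans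

variable {F V W D U : Type*} [Field F] [AddCommGroup V] [Module F V] [AddCommGroup W] [Module F W]
  [AddCommGroup D] [Module F D] [AddCommGroup U] [Module F U]

/-- block diagonal automorphisms -/
def J (e : (W × D × U) ≃ₗ[F] V) : ((W ≃ₗ[F] W) × (D ≃ₗ[F] D) × (U ≃ₗ[F] U)) →* (V ≃ₗ[F] V) where
  toFun x := e.symm ≪≫ₗ (x.1.prodCongr (x.2.1.prodCongr x.2.2)) ≪≫ₗ e
  map_one' := by
    ext v
    simp
  map_mul' x y := by
    ext v
    simp

variable {e : (W × D × U) ≃ₗ[F] V}

theorem J_apply (a : W ≃ₗ[F] W) (b : D ≃ₗ[F] D) (c : U ≃ₗ[F] U) (w : W) (d : D) (u : U) :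
    J e (a, b, c) (e (w, d, u)) = e (a w, b d, c u) := by
  simp [J]

theorem J_injective : Function.Injective (J e) := by
  rintro ⟨a, b, c⟩ ⟨a', b', c'⟩ h
  have h1 : ∀ w d u, (a w, b d, c u) = (a' w, b' d, c' u) := by
    intro w d u
    have := congrArg (fun g : V ≃ₗ[F] V => g (e (w, d, u))) h
    simp only [J_apply] at this
    exact e.injective this
  have ha : a = a' := by ext w; exact congrArg Prod.fst (h1 w 0 0)
  have hb : b = b' := by ext d; exact congrArg (fun x => x.2.1) (h1 0 d 0)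
  have hc : c = c' := by ext u; exact congrArg (fun x => x.2.2) (h1 0 0 u)
  rw [ha, hb, hc]

theorem eq_of_apply {g h : V ≃ₗ[F] V} (e : (W × D × U) ≃ₗ[F] V)
    (hgh : ∀ w d u, g (e (w, d, u)) = h (e (w, d, u))) : g = h := by
  ext v
  obtain ⟨⟨w, d, u⟩, rfl⟩ := e.surjective v
  exact hgh w d u

variable {Q : QuadraticForm F V} {QW : QuadraticForm F W} {QD : QuadraticForm F D} {QU : QuadraticForm F U}

/-- the isometric decomposition -/
def Iso3 (Q : QuadraticForm F V) (QW : QuadraticForm F W) (QD : QuadraticForm F D) (QU : QuadraticForm F U)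
    (e : (W × D × U) ≃ₗ[F] V) : Prop := ∀ w d u, Q (e (w, d, u)) = QW w + QD d + QU u

variable (he : Iso3 Q QW QD QU e)
include he

theorem Iso3.polar (w w' : W) (d d' : D) (u u' : U) :
    polar Q (e (w, d, u)) (e (w', d', u')) = polar QW w w' + polar QD d d' + polar QU u u' := by
  simp only [QuadraticMap.polar]
  rw [← map_add, Prod.mk_add_mk, Prod.mk_add_mk, he, he, he]
  ring

theorem J_mem_O_iff (a : W ≃ₗ[F] W) (b : D ≃ₗ[F] D) (c : U ≃ₗ[F] U) :
    J e (a, b, c) ∈ O Q ↔ a ∈ O QW ∧ b ∈ O QD ∧ c ∈ O QU := by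
  constructor
  · intro h
    have h1 : ∀ w d u, QW (a w) + QD (b d) + QU (c u) = QW w + QD d + QU u := by
      intro w d u
      have := h (e (w, d, u))
      rwa [J_apply, he, he] at this
    refine ⟨fun w => ?_, fun d => ?_, fun u => ?_⟩
    · simpa using h1 w 0 0
    · simpa using h1 0 d 0
    · simpa using h1 0 0 u
  · rintro ⟨h1, h2, h3⟩ v
    obtain ⟨⟨w, d, u⟩, rfl⟩ := e.surjective v
    rw [J_apply, he, he, h1 w, h2 d, h3 u]

theorem Iso3.nondegW (hQ : Nondeg Q) : Nondeg QW := by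
  intro w hw
  have h1 := hQ (e (w, 0, 0)) (fun y => by
    obtain ⟨⟨w', d, u⟩, rfl⟩ := e.surjective y
    rw [he.polar, hw]
    simp [QuadraticMap.polar])
  have h2 := e.injective (h1.trans (map_zero e).symm)
  exact congrArg Prod.fst h2

theorem Iso3.nondegD (hQ : Nondeg Q) : Nondeg QD := by
  intro d hd
  have h1 := hQ (e (0, d, 0)) (fun y => by
    obtain ⟨⟨w', d, u⟩, rfl⟩ := e.surjective y
    rw [he.polar, hd]
    simp [QuadraticMap.polar])
  have h2 := e.injective (h1.trans (map_zero e).symm)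
  exact congrArg (fun x => x.2.1) h2

theorem Iso3.nondegU (hQ : Nondeg Q) : Nondeg QU := by
  intro u hu
  have h1 := hQ (e (0, 0, u)) (fun y => by
    obtain ⟨⟨w', d, u⟩, rfl⟩ := e.surjective y
    rw [he.polar, hu]
    simp [QuadraticMap.polar])
  have h2 := e.injective (h1.trans (map_zero e).symm)
  exact congrArg (fun x => x.2.2) h2

theorem J_siegelW {x y : W} (hx : QW x = 0) (hy : polar QW x y = 0) (hx' : Q (e (x, 0, 0)) = 0)
    (hy' : polar Q (e (x, 0, 0)) (e (y, 0, 0)) = 0) :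
    J e (siegel QW x y hx hy, 1, 1) = siegel Q (e (x, 0, 0)) (e (y, 0, 0)) hx' hy' := by
  apply eq_of_apply e
  intro w d u
  rw [J_apply, siegel_apply, siegel_apply, he.polar, he.polar, he]
  simp only [← map_smul, ← map_add, ← map_sub, Prod.smul_mk, Prod.mk_add_mk, Prod.mk_sub_mk, smul_zero,
    polar_zero_left, QuadraticMap.map_zero, add_zero, sub_zero, LinearEquiv.coe_one, id_eq]

theorem J_reflW {x : W} (hx : QW x ≠ 0) (hx' : Q (e (x, 0, 0)) ≠ 0) :
    J e (refl QW x hx, 1, 1) = refl Q (e (x, 0, 0)) hx' := by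
  apply eq_of_apply e
  intro w d u
  rw [J_apply, refl_apply, refl_apply, he.polar, he]
  simp only [← map_smul, ← map_sub, Prod.smul_mk, Prod.mk_sub_mk, smul_zero,
    polar_zero_left, QuadraticMap.map_zero, add_zero, sub_zero, LinearEquiv.coe_one, id_eq]

theorem J_E_W {a : W ≃ₗ[F] W} (ha : a ∈ E QW) : J e (a, 1, 1) ∈ E Q := by
  have h1 : E QW ≤ (E Q).comap ((J e).comp (MonoidHom.inl (W ≃ₗ[F] W) ((D ≃ₗ[F] D) × (U ≃ₗ[F] U)))) := by
    rw [E, Subgroup.closure_le]
    rintro _ ⟨x, y, hx, hy, rfl⟩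
    rw [SetLike.mem_coe, Subgroup.mem_comap]
    change J e (siegel QW x y hx hy, 1, 1) ∈ E Q
    have hx' : Q (e (x, 0, 0)) = 0 := by rw [he, hx]; simp
    have hy' : polar Q (e (x, 0, 0)) (e (y, 0, 0)) = 0 := by rw [he.polar, hy]; simp
    rw [J_siegelW he hx hy hx' hy']
    exact siegel_mem_E hx' hy'
  exact h1 ha

omit he

/-- permutation of the summands -/
def swapD (e : (W × D × U) ≃ₗ[F] V) : (D × W × U) ≃ₗ[F] V where
  toFun x := e (x.2.1, x.1, x.2.2)
  invFun v := ((e.symm v).2.1, (e.symm v).1, (e.symm v).2.2)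
  map_add' x y := by rw [← map_add]; rfl
  map_smul' c x := by rw [RingHom.id_apply, ← map_smul]; rfl
  left_inv x := by simp
  right_inv v := by simp

/-- permutation of the summands -/
def swapU (e : (W × D × U) ≃ₗ[F] V) : (U × W × D) ≃ₗ[F] V where
  toFun x := e (x.2.1, x.2.2, x.1)
  invFun v := ((e.symm v).2.2, (e.symm v).1, (e.symm v).2.1)
  map_add' x y := by rw [← map_add]; rfl
  map_smul' c x := by rw [RingHom.id_apply, ← map_smul]; rfl
  left_inv x := by simp
  right_inv v := by simp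

theorem swapD_apply (w : W) (d : D) (u : U) : swapD e (d, w, u) = e (w, d, u) := rfl

theorem swapU_apply (w : W) (d : D) (u : U) : swapU e (u, w, d) = e (w, d, u) := rfl

theorem J_swapD (a : W ≃ₗ[F] W) (b : D ≃ₗ[F] D) (c : U ≃ₗ[F] U) : J (swapD e) (b, a, c) = J e (a, b, c) := by
  apply eq_of_apply (swapD e)
  intro d w u
  rw [J_apply, swapD_apply, swapD_apply, J_apply]

theorem J_swapU (a : W ≃ₗ[F] W) (b : D ≃ₗ[F] D) (c : U ≃ₗ[F] U) : J (swapU e) (c, a, b) = J e (a, b, c) := by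
  apply eq_of_apply (swapU e)
  intro u w d
  rw [J_apply, swapU_apply, swapU_apply, J_apply]

include he

theorem iso_swapD : Iso3 Q QD QW QU (swapD e) := fun d w u => by
  rw [swapD_apply, he]
  ring

theorem iso_swapU : Iso3 Q QU QW QD (swapU e) := fun u w d => by
  rw [swapU_apply, he]
  ring

theorem J_E_D {b : D ≃ₗ[F] D} (hb : b ∈ E QD) : J e (1, b, 1) ∈ E Q := by
  rw [← J_swapD]
  exact J_E_W (iso_swapD he) hb

theorem J_E_U {c : U ≃ₗ[F] U} (hc : c ∈ E QU) : J e (1, 1, c) ∈ E Q := by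
  rw [← J_swapU]
  exact J_E_W (iso_swapU he) hc

end Cfsg.Agent.H765.Bs
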