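import Cfsg.Agent.H765.Bs.TrickOm
import Cfsg.Agent.H847.Bs.Stmts

/-!
# S5733, BS23 in the form `S23` (helper765), relative to the block counts (BS08) and the count (BS12)
-/

set_option autoImplicit false

namespace Cfsg.Agent.H765.Bs

open QuadraticMap Cfsg.Agent.LieClassical.OrthCore Cfsg.Agent.H847.Bs Module

theorem iso_frmQ {F V : Type*} [Field F] [AddCommGroup V] [Module F V] (Q : QuadraticForm F V) :
    (frmQ Q).Iso = O Q := by
  ext g
  constructor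
  · intro h v
    exact h.2 v
  · intro h
    exact ⟨fun x y => polar_map h x y, fun x => h x⟩

theorem ocount_of (h : S12) : OCount := by
  obtain ⟨c, hc, K₀, h⟩ := h
  refine ⟨c, hc, K₀, ?_⟩
  intro F V _ _ _ _ _ Q hQ n K hK hn hKn
  have h1 := h F V Q n K hQ hK hn hKn
  rwa [iso_frmQ] at h1

/-- **BS23** -/
theorem s23_of {j : ℕ} (hj : 10 ≤ j) {c₁ : ℝ} (hc₁ : 0 < c₁) (h1 : OPlus j c₁) (h2 : OAdj j c₁) (h3 : S12) : S23 := by
  rintro ⟨ε, hε, hb⟩
  obtain ⟨c, hc, n₀, h⟩ := trick_omega_of hj hc₁ h1 h2 (ocount_of h3)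
    ⟨ε, hε, fun F W _ _ _ _ _ Q hQ hd => hb F W Q hQ hd⟩
  exact ⟨c, hc, n₀, fun F V _ _ _ _ _ Q hQ hn H _ hH => h F V Q hQ hn H hH⟩

end Cfsg.Agent.H765.Bs
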