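import Cfsg.Agent.H765.Bs.Ti

/-!
# S5733, BS23: existence of the decomposition `V = W ⟂ D ⟂ U` (helper765)

`split_hyp` : a hyperbolic plane splits off; `split` : `m` hyperbolic planes; `exists_dec`.
-/

set_option autoImplicit false
set_option linter.unusedSectionVars false

namespace Cfsg.Agent.H765.Bs

open QuadraticMap Cfsg.Agent.LieClassical.OrthCore Cfsg.Agent.LieClassical.OrthTrans
  Cfsg.Agent.LieClassical.OrthFinite Cfsg.Agent.H847.Bs Module

variable {F V : Type} [Field F] [AddCommGroup V] [Module F V] {Q : QuadraticForm F V}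

/-- the orthogonal space of a hyperbolic pair -/
def hperp (Q : QuadraticForm F V) (x y : V) : Submodule F V where
  carrier := {v | polar Q x v = 0 ∧ polar Q y v = 0}
  add_mem' := by
    rintro a b ⟨h1, h2⟩ ⟨h3, h4⟩
    exact ⟨by rw [polar_add_right, h1, h3, add_zero], by rw [polar_add_right, h2, h4, add_zero]⟩
  zero_mem' := ⟨polar_zero_right Q x, polar_zero_right Q y⟩
  smul_mem' := by
    rintro c a ⟨h1, h2⟩
    exact ⟨by rw [polar_smul_right, h1, smul_zero], by rw [polar_smul_right, h2, smul_zero]⟩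

/-- splitting off a hyperbolic plane -/
noncomputable def hypE {x y : V} (h : Hyp Q x y) : ((F × F) × hperp Q x y) ≃ₗ[F] V where
  toFun t := t.1.1 • x + t.1.2 • y + t.2
  invFun v := ((polar Q y v, polar Q x v), ⟨LieClassical.OrthTrans.proj Q x y v, polar_proj_left h v, polar_proj_right h v⟩)
  map_add' s t := by
    simp only [Prod.fst_add, Prod.snd_add, Submodule.coe_add]
    module
  map_smul' c t := by
    simp only [Prod.smul_fst, Prod.smul_snd, Submodule.coe_smul, smul_eq_mul, RingHom.id_apply]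
    module
  left_inv t := by
    obtain ⟨⟨s, t⟩, ⟨v, hv1, hv2⟩⟩ := t
    have h1 : polar Q y (s • x + t • y + v) = s := by
      rw [polar_add_right, polar_add_right, polar_smul_right, polar_smul_right, h.pair', h.polar_right, hv2]
      simp
    have h2 : polar Q x (s • x + t • y + v) = t := by
      rw [polar_add_right, polar_add_right, polar_smul_right, polar_smul_right, h.pair, h.polar_left, hv1]
      simp
    refine Prod.ext (Prod.ext h1 h2) (Subtype.ext ?_)
    simp only [LieClassical.OrthTrans.proj, h1, h2]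
    module
  right_inv v := by
    simp only [LieClassical.OrthTrans.proj]
    module

theorem hypE_Q {x y : V} (h : Hyp Q x y) (s t : F) (v : hperp Q x y) :
    Q (hypE h ((s, t), v)) = s * t + Q v := by
  change Q (s • x + t • y + (v : V)) = _
  have h1 : polar Q (s • x + t • y) v = 0 := by
    rw [polar_add_left, polar_smul_left, polar_smul_left, v.2.1, v.2.2]
    simp
  rw [Q_add, Q_add, h1, QuadraticMap.map_smul, QuadraticMap.map_smul, h.left, h.right, polar_smul_left,
    polar_smul_right, h.pair]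
  simp

theorem nondeg_hperp {x y : V} (hQ : Nondeg Q) (h : Hyp Q x y) : Nondeg (Q.comp (hperp Q x y).subtype) := by
  rintro ⟨v, hv1, hv2⟩ hv
  apply Subtype.ext
  apply hQ
  intro w
  have h1 := hv ⟨LieClassical.OrthTrans.proj Q x y w, polar_proj_left h w, polar_proj_right h w⟩
  have h2 : polar Q v (LieClassical.OrthTrans.proj Q x y w) = 0 := h1
  rwa [polar_proj_of_perp hv1 hv2] at h2

/-- **`m` hyperbolic planes split off** -/
theorem split [Finite F] (m : ℕ) : ∀ (V : Type) [AddCommGroup V] [Module F V] [FiniteDimensional F V] (Q : QuadraticForm F V),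
    Nondeg Q → 2 * m + 1 ≤ finrank F V → ∃ (V' : Type) (_ : AddCommGroup V') (_ : Module F V')
      (_ : FiniteDimensional F V') (Q' : QuadraticForm F V'), Nondeg Q' ∧ finrank F V' + 2 * m = finrank F V ∧
      ∃ e : ((Fin m → F × F) × V') ≃ₗ[F] V, ∀ x v, Q (e (x, v)) = (∑ i, (x i).1 * (x i).2) + Q' v := by
  induction m with
  | zero =>
    intro V _ _ _ Q hQ hd
    refine ⟨V, inferInstance, inferInstance, inferInstance, Q, hQ, by simp, LinearEquiv.uniqueProd, ?_⟩
    intro x v
    simp
  | succ m ih =>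
    intro V _ _ _ Q hQ hd
    obtain ⟨x, -, hx0, hx⟩ := exists_sing_mem (Q := Q) (⊤ : Submodule F V) (by rw [finrank_top]; omega)
    obtain ⟨y, h⟩ := exists_hyp hQ hx hx0
    have h1 : finrank F ((F × F) × hperp Q x y) = finrank F V := (hypE h).finrank_eq
    rw [finrank_prod, finrank_prod, finrank_self] at h1
    obtain ⟨V', i1, i2, i3, Q', hQ', hd', e, he⟩ := ih (hperp Q x y) (Q.comp (hperp Q x y).subtype)
      (nondeg_hperp hQ h) (by omega)
    refine ⟨V', i1, i2, i3, Q', hQ', by omega, ?_, ?_⟩
    · exact ((Fin.consLinearEquiv F (fun _ : Fin (m + 1) => F × F)).symm.prodCongr (LinearEquiv.refl F V')) ≪≫ₗ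
        (LinearEquiv.prodAssoc F (F × F) (Fin m → F × F) V') ≪≫ₗ ((LinearEquiv.refl F (F × F)).prodCongr e) ≪≫ₗ hypE h
    · intro x' v
      have e1 : ∀ (a : F × F) (b : Fin m → F × F), Q (hypE h (a, e (b, v))) = a.1 * a.2 + ((∑ i, (b i).1 * (b i).2) + Q' v) := by
        rintro ⟨s, t⟩ b
        rw [hypE_Q, ← he]
        rfl
      have e2 := e1 (x' 0) (fun i => x' i.succ)
      rw [Fin.sum_univ_succ, add_assoc]
      exact e2

/-- a nondegenerate form of odd dimension: odd characteristic -/
theorem two_ne_of_odd [Finite F] [FiniteDimensional F V] (hQ : Nondeg Q) {m : ℕ} (hm : finrank F V = 2 * m + 1) :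
    (2 : F) ≠ 0 := by
  intro h2
  obtain ⟨V', i1, i2, i3, Q', hQ', hd, -⟩ := split m V Q hQ (by omega)
  have h1 : finrank F V' = 1 := by omega
  obtain ⟨v, hv0, hv⟩ := finrank_eq_one_iff'.1 h1
  apply hv0
  apply hQ'
  intro y
  obtain ⟨c, rfl⟩ := hv y
  rw [polar_smul_right, polar_self', h2, zero_mul, smul_zero]

/-- the orthogonal space of a vector -/
def vperp (Q : QuadraticForm F V) (x : V) : Submodule F V where
  carrier := {v | polar Q x v = 0}
  add_mem' := by
    intro a b h1 h3
    have h1' : polar Q x a = 0 := h1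
    have h3' : polar Q x b = 0 := h3
    change polar Q x (a + b) = 0
    rw [polar_add_right, h1', h3', add_zero]
  zero_mem' := polar_zero_right Q x
  smul_mem' := by
    intro c a h1
    have h1' : polar Q x a = 0 := h1
    change polar Q x (c • a) = 0
    rw [polar_smul_right, h1', smul_zero]

/-- splitting off a line -/
theorem split_line [FiniteDimensional F V] (h2 : (2 : F) ≠ 0) (hQ : Nondeg Q) (hd : 0 < finrank F V) :
    ∃ (V' : Type) (_ : AddCommGroup V') (_ : Module F V') (_ : FiniteDimensional F V') (Q' : QuadraticForm F V'),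
      Nondeg Q' ∧ finrank F V' + 1 = finrank F V ∧ ∃ (a : F) (e : (F × V') ≃ₗ[F] V),
      ∀ t v, Q (e (t, v)) = a * (t * t) + Q' v := by
  obtain ⟨x, hx⟩ : ∃ x : V, Q x ≠ 0 := by
    by_contra hcon
    push Not at hcon
    have : Nontrivial V := Module.finrank_pos_iff.1 hd
    obtain ⟨v, hv⟩ := exists_ne (0 : V)
    apply hv
    apply hQ
    intro y
    rw [QuadraticMap.polar, hcon, hcon, hcon]
    ring
  have hxx : polar Q x x ≠ 0 := by
    rw [polar_self']
    exact mul_ne_zero h2 hx
  let e : (F × vperp Q x) ≃ₗ[F] V :=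
    { toFun := fun t => t.1 • x + t.2
      invFun := fun v => ((polar Q x x)⁻¹ * polar Q x v, ⟨v - ((polar Q x x)⁻¹ * polar Q x v) • x, by
        change polar Q x _ = 0
        rw [polar_sub_right, polar_smul_right, smul_eq_mul, mul_right_comm, inv_mul_cancel₀ hxx, one_mul, sub_self]⟩)
      map_add' := by
        intro s t
        simp only [Prod.fst_add, Prod.snd_add, Submodule.coe_add]
        module
      map_smul' := by
        intro c t
        simp only [Prod.smul_fst, Prod.smul_snd, Submodule.coe_smul, smul_eq_mul, RingHom.id_apply]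
        module
      left_inv := by
        rintro ⟨t, ⟨v, hv⟩⟩
        have hv' : polar Q x v = 0 := hv
        have h1 : (polar Q x x)⁻¹ * polar Q x (t • x + v) = t := by
          rw [polar_add_right, polar_smul_right, hv', add_zero, smul_eq_mul, mul_comm t, ← mul_assoc,
            inv_mul_cancel₀ hxx, one_mul]
        refine Prod.ext h1 (Subtype.ext ?_)
        change t • x + v - ((polar Q x x)⁻¹ * polar Q x (t • x + v)) • x = v
        rw [h1]
        abel
      right_inv := by
        intro v
        change ((polar Q x x)⁻¹ * polar Q x v) • x + (v - ((polar Q x x)⁻¹ * polar Q x v) • x) = v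
        abel }
  have hfd := e.finrank_eq
  rw [finrank_prod, finrank_self] at hfd
  refine ⟨vperp Q x, inferInstance, inferInstance, inferInstance, Q.comp (vperp Q x).subtype, ?_, by omega, Q x, e, ?_⟩
  · rintro ⟨v, hv⟩ hv1
    have hv' : polar Q x v = 0 := hv
    apply Subtype.ext
    apply hQ
    intro w
    obtain ⟨⟨t, u⟩, rfl⟩ := e.surjective w
    change polar Q v (t • x + u) = 0
    have h3 : polar Q v u = 0 := hv1 u
    rw [polar_add_right, polar_smul_right, polar_comm Q v x, hv', h3, smul_zero, add_zero]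
  · rintro t ⟨v, hv⟩
    have hv' : polar Q x v = 0 := hv
    change Q (t • x + v) = _
    rw [Q_add, QuadraticMap.map_smul, polar_smul_left, hv', smul_zero, add_zero, smul_eq_mul]
    change _ = Q x * (t * t) + Q v
    ring

/-- the orthogonal sum of `m` hyperbolic planes -/
noncomputable def qH (F : Type) [Field F] (m : ℕ) : QuadraticForm F (Fin m → F × F) :=
  ∑ i, QuadraticMap.linMulLin ((LinearMap.fst F F F) ∘ₗ (LinearMap.proj i)) ((LinearMap.snd F F F) ∘ₗ (LinearMap.proj i))

theorem qH_apply (m : ℕ) (x : Fin m → F × F) : qH F m x = ∑ i, (x i).1 * (x i).2 := by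
  simp [qH]

theorem plusT_qH (m : ℕ) : PlusT (qH F m) := by
  let i : (Fin m → F) →ₗ[F] (Fin m → F × F) :=
    LinearMap.pi fun k => (LinearMap.inl F F F) ∘ₗ (LinearMap.proj k)
  have hi : ∀ x k, i x k = (x k, 0) := fun x k => rfl
  have hinj : Function.Injective i := by
    intro x y hxy
    funext k
    have := congrFun hxy k
    rw [hi, hi] at this
    exact congrArg Prod.fst this
  have hQ0 : ∀ x, qH F m (i x) = 0 := by
    intro x
    rw [qH_apply]
    refine Finset.sum_eq_zero fun k _ => ?_
    rw [hi]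
    simp
  refine ⟨LinearMap.range i, ⟨?_, ?_⟩, ?_⟩
  · rintro _ ⟨x, rfl⟩ _ ⟨y, rfl⟩
    change polar (qH F m) (i x) (i y) = 0
    rw [QuadraticMap.polar, ← map_add, hQ0, hQ0, hQ0]
    ring
  · rintro _ ⟨x, rfl⟩
    exact hQ0 x
  · rw [LinearMap.finrank_range_of_inj hinj]
    simp [Module.finrank_pi_fintype, Module.finrank_prod]
    ring

theorem finrank_H (m : ℕ) : finrank F (Fin m → F × F) = 2 * m := by
  simp [Module.finrank_pi_fintype, Module.finrank_prod]
  ring

/-- **the decomposition** -/
theorem exists_dec [Finite F] [FiniteDimensional F V] (hQ : Nondeg Q) (j : ℕ) (hd : 2 * (4 + j) + 3 ≤ finrank F V) :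
    ∃ (W D U : Type) (_ : AddCommGroup W) (_ : Module F W) (_ : FiniteDimensional F W) (_ : AddCommGroup D)
      (_ : Module F D) (_ : FiniteDimensional F D) (_ : AddCommGroup U) (_ : Module F U) (_ : FiniteDimensional F U)
      (QW : QuadraticForm F W) (QD : QuadraticForm F D) (QU : QuadraticForm F U) (e : (W × D × U) ≃ₗ[F] V),
      Iso3 Q QW QD QU e ∧ (finrank F W = 8 ∨ finrank F W = 9) ∧ finrank F D = 2 * j ∧ PlusT QD ∧
      (∃ m, finrank F U = 2 * m) ∧ finrank F V = finrank F W + finrank F D + finrank F U := by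
  obtain ⟨V1, i1, i2, i3, Q1, hQ1, hd1, e1, he1⟩ := split 4 V Q hQ (by omega)
  obtain ⟨V2, j1, j2, j3, Q2, hQ2, hd2, e2, he2⟩ := split j V1 Q1 hQ1 (by omega)
  rcases Nat.even_or_odd' (finrank F V2) with ⟨m, hm | hm⟩
  · refine ⟨Fin 4 → F × F, Fin j → F × F, V2, inferInstance, inferInstance, inferInstance, inferInstance, inferInstance,
      inferInstance, j1, j2, j3, qH F 4, qH F j, Q2, ((LinearEquiv.refl F (Fin 4 → F × F)).prodCongr e2) ≪≫ₗ e1, ?_, ?_,
      finrank_H j, plusT_qH j, ⟨m, hm⟩, ?_⟩
    · intro w d u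
      change Q (e1 (w, e2 (d, u))) = _
      rw [he1, he2, qH_apply, qH_apply]
      ring
    · left; rw [finrank_H]
    · rw [finrank_H, finrank_H]; omega
  · have h2 := two_ne_of_odd hQ2 hm
    obtain ⟨V3, k1, k2, k3, Q3, hQ3, hd3, a, e3, he3⟩ := split_line h2 hQ2 (by omega)
    let s : (((Fin 4 → F × F) × F) × (Fin j → F × F) × V3) ≃ₗ[F] ((Fin 4 → F × F) × ((Fin j → F × F) × (F × V3))) :=
      { toFun := fun x => (x.1.1, (x.2.1, (x.1.2, x.2.2)))
        invFun := fun x => ((x.1, x.2.2.1), (x.2.1, x.2.2.2))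
        map_add' := fun _ _ => rfl
        map_smul' := fun _ _ => rfl
        left_inv := fun _ => rfl
        right_inv := fun _ => rfl }
    let QW : QuadraticForm F ((Fin 4 → F × F) × F) :=
      (qH F 4).comp (LinearMap.fst F (Fin 4 → F × F) F) +
        a • QuadraticMap.linMulLin (LinearMap.snd F (Fin 4 → F × F) F) (LinearMap.snd F (Fin 4 → F × F) F)
    refine ⟨(Fin 4 → F × F) × F, Fin j → F × F, V3, inferInstance, inferInstance, inferInstance, inferInstance,
      inferInstance, inferInstance, k1, k2, k3, QW, qH F j, Q3,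
      s ≪≫ₗ ((LinearEquiv.refl F (Fin 4 → F × F)).prodCongr ((LinearEquiv.refl F (Fin j → F × F)).prodCongr e3)) ≪≫ₗ
        ((LinearEquiv.refl F (Fin 4 → F × F)).prodCongr e2) ≪≫ₗ e1, ?_, ?_, finrank_H j, plusT_qH j, ⟨m, by omega⟩, ?_⟩
    · rintro ⟨w, t⟩ d u
      change Q (e1 (w, e2 (d, e3 (t, u)))) = _
      rw [he1, he2, he3, qH_apply]
      have e5 : QW (w, t) = (∑ i, (w i).1 * (w i).2) + a * (t * t) := by
        simp [QW, qH_apply]
      rw [e5]
      ring
    · right; rw [finrank_prod, finrank_H, finrank_self]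
    · rw [finrank_prod, finrank_H, finrank_H, finrank_self]; omega

end Cfsg.Agent.H765.Bs
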