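import Cfsg.Agent.H765.Bs.Ext

/-!
# S5733, BS23: the trivial intersection property (helper765)

`ti` : if `g` conjugates `J (a, b, c)` into `J (a', b', c')`, where `b` is of type plus and `c'` has no small invariant
subspaces, then `g` is block diagonal.
-/

set_option autoImplicit false
set_option linter.unusedSectionVars false

namespace Cfsg.Agent.H765.Bs

open QuadraticMap Cfsg.Agent.LieClassical.OrthCore Cfsg.Agent.H847.Bs Module

variable {F V W D U : Type*} [Field F] [AddCommGroup V] [Module F V] [AddCommGroup W] [Module F W]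
  [AddCommGroup D] [Module F D] [AddCommGroup U] [Module F U]
  {e : (W × D × U) ≃ₗ[F] V} {Q : QuadraticForm F V} {QW : QuadraticForm F W} {QD : QuadraticForm F D}
  {QU : QuadraticForm F U}

section maps

variable (e)

def iW : W →ₗ[F] V := (e : (W × D × U) →ₗ[F] V) ∘ₗ LinearMap.inl F W (D × U)
def iD : D →ₗ[F] V := (e : (W × D × U) →ₗ[F] V) ∘ₗ LinearMap.inr F W (D × U) ∘ₗ LinearMap.inl F D U
def iU : U →ₗ[F] V := (e : (W × D × U) →ₗ[F] V) ∘ₗ LinearMap.inr F W (D × U) ∘ₗ LinearMap.inr F D U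
def pW : V →ₗ[F] W := LinearMap.fst F W (D × U) ∘ₗ (e.symm : V →ₗ[F] (W × D × U))
def pD : V →ₗ[F] D := LinearMap.fst F D U ∘ₗ LinearMap.snd F W (D × U) ∘ₗ (e.symm : V →ₗ[F] (W × D × U))
def pU : V →ₗ[F] U := LinearMap.snd F D U ∘ₗ LinearMap.snd F W (D × U) ∘ₗ (e.symm : V →ₗ[F] (W × D × U))

variable {e}

theorem iW_apply (w : W) : iW e w = e (w, 0, 0) := rfl
theorem iD_apply (d : D) : iD e d = e (0, d, 0) := rfl
theorem iU_apply (u : U) : iU e u = e (0, 0, u) := rfl

theorem e_eq (w : W) (d : D) (u : U) : e (w, d, u) = iW e w + iD e d + iU e u := by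
  rw [iW_apply, iD_apply, iU_apply, ← map_add, ← map_add]
  simp

theorem e_p (v : V) : e (pW e v, pD e v, pU e v) = v := by
  change e (e.symm v) = v
  rw [LinearEquiv.apply_symm_apply]

theorem p_e (w : W) (d : D) (u : U) : pW e (e (w, d, u)) = w ∧ pD e (e (w, d, u)) = d ∧ pU e (e (w, d, u)) = u := by
  refine ⟨?_, ?_, ?_⟩ <;> simp [pW, pD, pU]

theorem p_J (a : W ≃ₗ[F] W) (b : D ≃ₗ[F] D) (c : U ≃ₗ[F] U) (v : V) :
    pW e (J e (a, b, c) v) = a (pW e v) ∧ pD e (J e (a, b, c) v) = b (pD e v) ∧ pU e (J e (a, b, c) v) = c (pU e v) := by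
  obtain ⟨⟨w, d, u⟩, rfl⟩ := e.surjective v
  rw [J_apply]
  obtain ⟨h1, h2, h3⟩ := p_e (e := e) w d u
  obtain ⟨h4, h5, h6⟩ := p_e (e := e) (a w) (b d) (c u)
  rw [h1, h2, h3, h4, h5, h6]
  exact ⟨rfl, rfl, rfl⟩

end maps

variable [FiniteDimensional F W] [FiniteDimensional F D] [FiniteDimensional F U]

/-- the image of a small module in a module without small submodules -/
theorem zero_of_small {X : Type*} [AddCommGroup X] [Module F X] {K : ℕ} {c' : U ≃ₗ[F] U}
    (hc' : ∀ Y : Submodule F U, Inv c' Y → Y ≠ ⊥ → K < finrank F Y) (A : Submodule F X) [FiniteDimensional F A]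
    (hA : finrank F A ≤ K) (f : X →ₗ[F] U) (hf : ∀ y ∈ A, ∃ y' ∈ A, c' (f y) = f y') : ∀ y ∈ A, f y = 0 := by
  by_contra hcon
  push Not at hcon
  obtain ⟨y, hy, hne⟩ := hcon
  have h1 : A.map f ≠ ⊥ := by
    intro h0
    have : f y ∈ A.map f := Submodule.mem_map_of_mem hy
    rw [h0, Submodule.mem_bot] at this
    exact hne this
  have h2 := hc' (A.map f) (by
    rintro _ ⟨y, hy, rfl⟩
    obtain ⟨y', hy', h⟩ := hf y hy
    rw [h]
    exact Submodule.mem_map_of_mem hy') h1
  have h3 := Submodule.finrank_map_le f A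
  omega

theorem ti [FiniteDimensional F V] (he : Iso3 Q QW QD QU e) (hQ : Nondeg Q) {j K : ℕ} (hW : finrank F W < j) (hK : j ≤ K)
    (hD : finrank F D = 2 * j) {a a' : W ≃ₗ[F] W} {b b' : D ≃ₗ[F] D} {c c' : U ≃ₗ[F] U}
    (hb : b ∈ (frmQ QD).Bp) (hc' : ∀ Y : Submodule F U, Inv c' Y → Y ≠ ⊥ → K < finrank F Y) {g : V ≃ₗ[F] V}
    (hg : g ∈ O Q) (h : g * J e (a, b, c) * g⁻¹ = J e (a', b', c')) : ∃ x, g = J e x := by
  obtain ⟨-, A, A', hAA, -, -, hA, hA', hdim, -⟩ := hb
  have hgx : ∀ v, g (J e (a, b, c) v) = J e (a', b', c') (g v) := by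
    intro v
    have h1 : g * J e (a, b, c) = J e (a', b', c') * g := by rw [← h]; group
    exact congrArg (fun f : V ≃ₗ[F] V => f v) h1
  have hsum := Submodule.finrank_add_eq_of_isCompl hAA
  have hxD : ∀ y : D, g (iD e (b y)) = J e (a', b', c') (g (iD e y)) := by
    intro y
    rw [← hgx, iD_apply, iD_apply, J_apply, map_zero, map_zero]
  have hxW : ∀ y : W, g (iW e (a y)) = J e (a', b', c') (g (iW e y)) := by
    intro y
    rw [← hgx, iW_apply, iW_apply, J_apply, map_zero, map_zero]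
  -- the image of an irreducible part of `D`
  have part : ∀ B : Submodule F D, Irr b B → finrank F B = j → ∀ y ∈ B, pW e (g (iD e y)) = 0 ∧ pU e (g (iD e y)) = 0 := by
    intro B hB hBj
    have h1 : ∀ y ∈ B, pU e (g (iD e y)) = 0 := by
      refine zero_of_small hc' B (by omega) (pU e ∘ₗ (g : V →ₗ[F] V) ∘ₗ iD e) ?_
      intro y hy
      refine ⟨b y, hB.inv y hy, ?_⟩
      change c' (pU e (g (iD e y))) = pU e (g (iD e (b y)))
      rw [hxD, (p_J _ _ _ _).2.2]
    let φ : D →ₗ[F] W := pW e ∘ₗ (g : V →ₗ[F] V) ∘ₗ iD e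
    have hφ : ∀ y, φ (b y) = a' (φ y) := by
      intro y
      change pW e (g (iD e (b y))) = a' (pW e (g (iD e y)))
      rw [hxD, (p_J _ _ _ _).1]
    have h2 := hB.min (B ⊓ LinearMap.ker φ) inf_le_left (by
      rintro y ⟨hy1, hy2⟩
      refine ⟨hB.inv y hy1, ?_⟩
      have hy3 : φ y = 0 := hy2
      change φ (b y) = 0
      rw [hφ, hy3, map_zero])
    have h3 : B ⊓ LinearMap.ker φ = B := by
      refine h2.resolve_left ?_
      intro h0
      have h4 : Function.Injective (φ.domRestrict B) := by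
        rw [← LinearMap.ker_eq_bot, eq_bot_iff]
        intro y hy
        have h5 : (y : D) ∈ B ⊓ LinearMap.ker φ := ⟨y.2, hy⟩
        rw [h0, Submodule.mem_bot] at h5
        rw [Submodule.mem_bot]
        exact Subtype.ext h5
      have h5 := LinearMap.finrank_le_finrank_of_injective h4
      omega
    intro y hy
    refine ⟨?_, h1 y hy⟩
    rw [← h3] at hy
    exact hy.2
  have hDall : ∀ y : D, pW e (g (iD e y)) = 0 ∧ pU e (g (iD e y)) = 0 := by
    intro y
    have hy : y ∈ A ⊔ A' := by rw [hAA.sup_eq_top]; trivial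
    obtain ⟨y1, hy1, y2, hy2, rfl⟩ := Submodule.mem_sup.1 hy
    obtain ⟨h1, h2⟩ := part A hA (by omega) y1 hy1
    obtain ⟨h3, h4⟩ := part A' hA' (by omega) y2 hy2
    rw [map_add, map_add, map_add, map_add, h1, h2, h3, h4]
    simp
  have inj : ∀ v : V, pW e v = 0 → pD e v = 0 → pU e v = 0 → v = 0 := by
    intro v h1 h2 h3
    rw [← e_p (e := e) v, h1, h2, h3]
    exact map_zero e
  -- the block `D`
  let b0 : D →ₗ[F] D := pD e ∘ₗ (g : V →ₗ[F] V) ∘ₗ iD e
  have hgD : ∀ y, g (iD e y) = iD e (b0 y) := by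
    intro y
    rw [← e_p (e := e) (g (iD e y)), (hDall y).1, (hDall y).2]
    rfl
  have hiD : Function.Injective (iD e) := fun x y hxy => by
    have := e.injective hxy
    exact congrArg (fun t => t.2.1) this
  have hiW : Function.Injective (iW e) := fun x y hxy => by
    have := e.injective hxy
    exact congrArg (fun t => t.1) this
  have hiU : Function.Injective (iU e) := fun x y hxy => by
    have := e.injective hxy
    exact congrArg (fun t => t.2.2) this
  have hb0 : Function.Injective b0 := by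
    intro x y hxy
    apply hiD
    apply g.injective
    rw [hgD, hgD, hxy]
  have hb0s : Function.Surjective b0 := (LinearMap.injective_iff_surjective).1 hb0
  have perpD : ∀ v : V, (∀ y : D, polar Q v (iD e y) = 0) → pD e (g v) = 0 := by
    intro v hv
    apply he.nondegD hQ
    intro y'
    obtain ⟨y, rfl⟩ := hb0s y'
    have h1 := hv y
    rw [← polar_map hg, hgD, ← e_p (e := e) (g v), iD_apply, he.polar] at h1
    simpa [QuadraticMap.polar] using h1
  -- the block `W`
  have hWU : ∀ w : W, pU e (g (iW e w)) = 0 := by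
    intro w
    refine zero_of_small hc' (⊤ : Submodule F W) (by rw [finrank_top]; omega) (pU e ∘ₗ (g : V →ₗ[F] V) ∘ₗ iW e) ?_ w trivial
    intro y _
    refine ⟨a y, trivial, ?_⟩
    change c' (pU e (g (iW e y))) = pU e (g (iW e (a y)))
    rw [hxW, (p_J _ _ _ _).2.2]
  have hWD : ∀ w : W, pD e (g (iW e w)) = 0 := by
    intro w
    apply perpD
    intro y
    rw [iW_apply, iD_apply, he.polar]
    simp [QuadraticMap.polar]
  let a0 : W →ₗ[F] W := pW e ∘ₗ (g : V →ₗ[F] V) ∘ₗ iW e
  have hgW : ∀ y, g (iW e y) = iW e (a0 y) := by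
    intro y
    rw [← e_p (e := e) (g (iW e y)), hWD, hWU]
    rfl
  have ha0 : Function.Injective a0 := by
    intro x y hxy
    apply hiW
    apply g.injective
    rw [hgW, hgW, hxy]
  have ha0s : Function.Surjective a0 := (LinearMap.injective_iff_surjective).1 ha0
  -- the block `U`
  have hUD : ∀ u : U, pD e (g (iU e u)) = 0 := by
    intro u
    apply perpD
    intro y
    rw [iU_apply, iD_apply, he.polar]
    simp [QuadraticMap.polar]
  have hUW : ∀ u : U, pW e (g (iU e u)) = 0 := by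
    intro u
    apply he.nondegW hQ
    intro y'
    obtain ⟨y, rfl⟩ := ha0s y'
    have h1 : polar Q (iU e u) (iW e y) = 0 := by
      rw [iU_apply, iW_apply, he.polar]
      simp [QuadraticMap.polar]
    rw [← polar_map hg, hgW, ← e_p (e := e) (g (iU e u)), iW_apply, he.polar] at h1
    simpa [QuadraticMap.polar] using h1
  let c0 : U →ₗ[F] U := pU e ∘ₗ (g : V →ₗ[F] V) ∘ₗ iU e
  have hgU : ∀ y, g (iU e y) = iU e (c0 y) := by
    intro y
    rw [← e_p (e := e) (g (iU e y)), hUD, hUW]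
    rfl
  have hc0 : Function.Injective c0 := by
    intro x y hxy
    apply hiU
    apply g.injective
    rw [hgU, hgU, hxy]
  refine ⟨(LinearEquiv.ofInjectiveEndo a0 ha0, LinearEquiv.ofInjectiveEndo b0 hb0, LinearEquiv.ofInjectiveEndo c0 hc0), ?_⟩
  apply eq_of_apply e
  intro w d u
  rw [J_apply]
  simp only [LinearEquiv.coe_ofInjectiveEndo]
  rw [e_eq, e_eq, map_add, map_add, hgW, hgD, hgU]

end Cfsg.Agent.H765.Bs
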