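import Cfsg.Agent.H765.Bs.Count
import Cfsg.Agent.H885.Irr

/-!
# S5733, BS23: the trick for `Ω` (helper765)

`trick_omega` : if `nd H` is small then `H` contains all root elements of a nondegenerate subspace of dimension 8 or 9.
-/

set_option autoImplicit false
set_option linter.unusedSectionVars false

namespace Cfsg.Agent.H765.Bs

open QuadraticMap Cfsg.Agent.LieClassical.OrthCore Cfsg.Agent.LieClassical.OrthTrans
  Cfsg.Agent.LieClassical.OrthFinite Cfsg.Agent.H847.Bs Module Cfsg.Agent.H358.Bs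

/-- the trick for one space -/
theorem trick_one {F V : Type} [Field F] [Finite F] [AddCommGroup V] [Module F V] [FiniteDimensional F V]
    {Q : QuadraticForm F V} (hQ : Nondeg Q) {j : ℕ} (hj : 10 ≤ j) {c₁ : ℝ} (hc₁ : 0 < c₁) (h1 : OPlus j c₁)
    (h2 : OAdj j c₁) {c₂ : ℝ} (hc₂ : 0 < c₂) {K : ℕ} (hK : j ≤ K)
    (h3 : ∀ (U : Type) [AddCommGroup U] [Module F U] [FiniteDimensional F U] (QU : QuadraticForm F U), Nondeg QU →
      ∀ n : ℕ, finrank F U = 2 * n → K < n →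
      c₂ * Nat.card ↥(O QU) ≤ Nat.card {x // x ∈ (frmQ QU).SS K (2 * n) ∧ x ∈ nQ QU})
    {ε : ℝ} (hε : 0 < ε) (h4 : ∀ (W : Type) [AddCommGroup W] [Module F W] [FiniteDimensional F W]
      (QW : QuadraticForm F W), Nondeg QW → (finrank F W = 8 ∨ finrank F W = 9) → RB ε ↥(E QW))
    (hd : 2 * j + 2 * K + 11 ≤ finrank F V) {H : Subgroup (V ≃ₗ[F] V)}
    (hH : 4 * (ndV (E Q) H : ℝ) < (1 / 4 * c₂ * c₁) * min 1 ε * Nat.card ↥(E Q)) :
    ∃ W : Submodule F V, Cfsg.Agent.H885.Irr.NdOn Q W ∧ (finrank F W = 8 ∨ finrank F W = 9) ∧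
      ∀ u ∈ W, ∀ w ∈ W, Q u = 0 → polar Q u w = 0 → Cfsg.Agent.H883.Root.Has Q H u w := by
  obtain ⟨W, D, U, i1, i2, i3, i4, i5, i6, i7, i8, i9, QW, QD, QU, e, he, hW, hD, hp, ⟨n, hn⟩, hsum⟩ :=
    exists_dec hQ j (by omega)
  have hn' : K < n := by omega
  have hfV := finite_aut F V
  have hfW := finite_aut F W
  have hJ : ∀ (a : W ≃ₗ[F] W) (b : D ≃ₗ[F] D) (c : U ≃ₗ[F] U), J e (a, b, c) = J e (1, b, c) * J e (a, 1, 1) := by
    intro a b c
    rw [← map_mul]; simp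
  let ι : (W ≃ₗ[F] W) →* (V ≃ₗ[F] V) := (J e).comp (MonoidHom.inl (W ≃ₗ[F] W) ((D ≃ₗ[F] D) × (U ≃ₗ[F] U)))
  have hι : ∀ a, ι a = J e (a, 1, 1) := fun a => rfl
  have hιinj : Function.Injective ι := by
    intro a b hab
    rw [hι, hι] at hab
    have := J_injective hab
    exact congrArg Prod.fst this
  have hcard := card_ES he hQ hc₁.le h1 h2 (by omega) (by omega) (by omega) hD (by omega) hp (n := n) hc₂.le
    (h3 U QU (he.nondegU hQ) n hn hn')
  obtain ⟨g, hg, hgK⟩ := trickV (G := E Q) (H := H) (M := (J e).range ⊓ E Q) (K₀ := (E QW).map ι)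
    (E := ES e Q QW QD QU K n) (c := 1 / 4 * c₂ * c₁) hε inf_le_right
    (by
      rintro _ ⟨a, ha, rfl⟩
      exact ⟨⟨_, rfl⟩, J_E_W he ha⟩)
    (by
      rintro y ⟨hy, a, -, b, -, c, -, rfl⟩
      exact ⟨⟨_, rfl⟩, hy⟩)
    (by
      rintro y ⟨hy, a, ha, b, hb, c, hc, rfl⟩ _ ⟨a', ha', rfl⟩
      refine ⟨mul_mem hy (J_E_W he ha'), a * a', mul_mem ha ha', b, hb, c, hc, ?_⟩
      rw [hι, ← map_mul]
      simp)
    (by
      rintro g hg x ⟨hx, a, ha, b, hb, c, hc, rfl⟩ ⟨hx', a', ha', b', hb', c', hc', h⟩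
      refine ⟨?_, hg⟩
      obtain ⟨t, ht⟩ := ti he hQ (j := j) (K := K) (by omega) hK hD hb hc'.2.1 (E_le_O hg) h
      exact ⟨t, ht.symm⟩)
    (by
      rintro y ⟨hy, a, ha, b, hb, c, hc, rfl⟩
      refine ⟨J e (1, b, c), ι a, ⟨a, ha, rfl⟩, ?_, hJ a b c⟩
      rintro _ ⟨a', ha', rfl⟩
      rw [hι, ← map_mul, ← map_mul]
      simp)
    hcard
    (RB.congr ((E QW).equivMapOfInjective ι hιinj) (h4 W QW (he.nondegW hQ) hW)) hH
  have hgO : g ∈ O Q := E_le_O hg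
  have hiW : Function.Injective (iW e) := fun x y hxy => by
    have := e.injective hxy
    exact congrArg (fun t => t.1) this
  have hmem : ∀ w : W, g (iW e w) ∈ (LinearMap.range (iW e)).map (g : V →ₗ[F] V) := fun w =>
    ⟨iW e w, ⟨w, rfl⟩, rfl⟩
  refine ⟨(LinearMap.range (iW e)).map (g : V →ₗ[F] V), ?_, ?_, ?_⟩
  · rintro _ ⟨_, ⟨w, rfl⟩, rfl⟩ h
    have h5 : w = 0 := by
      apply he.nondegW hQ
      intro w'
      have h6 := h _ (hmem w')
      have h7 : polar Q (g (iW e w)) (g (iW e w')) = 0 := h6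
      rw [polar_map hgO, iW_apply, iW_apply, he.polar] at h7
      simpa [QuadraticMap.polar] using h7
    rw [h5, map_zero, map_zero]
  · have h5 : finrank F ((LinearMap.range (iW e)).map (g : V →ₗ[F] V)) = finrank F W := by
      rw [LinearEquiv.finrank_map_eq g, LinearMap.finrank_range_of_inj hiW]
    rw [h5]
    exact hW
  · rintro _ ⟨_, ⟨x, rfl⟩, rfl⟩ _ ⟨_, ⟨y, rfl⟩, rfl⟩ hu hw
    have hu' : Q (g (iW e x)) = 0 := hu
    have hw' : polar Q (g (iW e x)) (g (iW e y)) = 0 := hw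
    have hu1 : Q (iW e x) = 0 := by rwa [mem_O.1 hgO] at hu'
    have hw1 : polar Q (iW e x) (iW e y) = 0 := by rwa [polar_map hgO] at hw'
    have hu2 : QW x = 0 := by
      rw [iW_apply, he] at hu1
      simpa using hu1
    have hw2 : polar QW x y = 0 := by
      rw [iW_apply, iW_apply, he.polar] at hw1
      simpa [QuadraticMap.polar] using hw1
    refine ⟨hu', hw', ?_⟩
    have h6 := hgK (J e (siegel QW x y hu2 hw2, 1, 1)) ⟨_, siegel_mem_E hu2 hw2, rfl⟩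
    rw [J_siegelW he hu2 hw2 hu1 hw1] at h6
    have h7 := siegel_conj hgO hu1 hw1 hu' hw'
    change siegel Q (g (iW e x)) (g (iW e y)) hu' hw' ∈ H
    rw [← h7]
    exact h6

/-- **BS23**, relative to the block counts, the count of large block elements and the bounded rank case -/
theorem trick_omega_of {j : ℕ} (hj : 10 ≤ j) {c₁ : ℝ} (hc₁ : 0 < c₁) (h1 : OPlus j c₁) (h2 : OAdj j c₁)
    (h3 : OCount) (hbase : Base) :
    ∃ c : ℝ, 0 < c ∧ ∃ n₀ : ℕ, ∀ (F V : Type) [Field F] [Finite F] [AddCommGroup V] [Module F V]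
      [FiniteDimensional F V] (Q : QuadraticForm F V), Nondeg Q → n₀ ≤ finrank F V → ∀ H : Subgroup (V ≃ₗ[F] V),
      (ndV (E Q) H : ℝ) < c * Nat.card ↥(E Q) →
      ∃ W : Submodule F V, Cfsg.Agent.H885.Irr.NdOn Q W ∧ (finrank F W = 8 ∨ finrank F W = 9) ∧
        ∀ u ∈ W, ∀ w ∈ W, Q u = 0 → polar Q u w = 0 → Cfsg.Agent.H883.Root.Has Q H u w := by
  obtain ⟨c₂, hc₂, K₀, h3⟩ := h3
  obtain ⟨ε, hε, h4⟩ := hbase
  set K := max K₀ j with hKdef
  have hc3 : 0 < c₂ / ((K : ℝ) + 1) := by positivity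
  refine ⟨(1 / 4 * (c₂ / ((K : ℝ) + 1)) * c₁) * min 1 ε / 4, ?_, 2 * j + 2 * K + 11, ?_⟩
  · have : 0 < min 1 ε := lt_min one_pos hε
    positivity
  · intro F V _ _ _ _ _ Q hQ hd H hH
    refine trick_one hQ hj hc₁ h1 h2 hc3 (le_max_right K₀ j) (fun U _ _ _ QU hQU n hn hKn => ?_) hε
      (fun W _ _ _ QW hQW hW => h4 F W QW hQW hW) hd ?_
    · exact h3 F U QU hQU n K (le_max_left K₀ j) hn hKn
    · have h5 : (1 / 4 * (c₂ / ((K : ℝ) + 1)) * c₁) * min 1 ε / 4 * (Nat.card ↥(E Q) : ℝ) * 4 =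
          (1 / 4 * (c₂ / ((K : ℝ) + 1)) * c₁) * min 1 ε * Nat.card ↥(E Q) := by ring
      linarith

end Cfsg.Agent.H765.Bs
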